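import Mathlib

/-!
# Bounded t-structures and idempotent completeness (Le–Chen)

A triangulated category with a bounded t-structure is idempotent complete.

* `Splits e` : the endomorphism `e` splits.
* `splits_of_sq_zero` : if `e` is idempotent, `p` a split idempotent and `(e - p)² = 0`,
  then `e` splits.
* `splits_of_triangle` : gluing along a distinguished triangle `X' ⟶ X ⟶ X'' ⟶ X'⟦1⟧`
  with `Hom(X'⟦1⟧, X'') = 0`.
* `splits_of_isGE_isLE` : idempotents on an object of amplitude `[a, a]` split.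
* `isIdempotentComplete_of_bounded`.
-/

set_option autoImplicit false
universe v u
open CategoryTheory CategoryTheory.Limits CategoryTheory.Pretriangulated CategoryTheory.Triangulated

namespace Groth.Agent.Lib.Helper16.TStructIdem

section Algebra

variable {C : Type u} [Category.{v} C] [Preadditive C]

/-- The endomorphism `e` splits. -/
def Splits {X : C} (e : X ⟶ X) : Prop :=
  ∃ (Y : C) (i : Y ⟶ X) (π : X ⟶ Y), i ≫ π = 𝟙 Y ∧ π ≫ i = e

lemma splits_of_sq_zero {X : C} (e p : X ⟶ X) (he : e ≫ e = e) (hp : Splits p)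
    (hn : (e - p) ≫ (e - p) = 0) : Splits e := by
  obtain ⟨A, i, π, hiπ, hπi⟩ := hp
  have hpp : p ≫ p = p := by
    rw [← hπi, Category.assoc, reassoc_of% hiπ]
  have hip : i ≫ p = i := by rw [← hπi, reassoc_of% hiπ]
  have hpπ : p ≫ π = π := by rw [← hπi, Category.assoc, hiπ, Category.comp_id]
  have h1 : e + p = e ≫ p + p ≫ e := by
    have h := hn
    simp only [Preadditive.sub_comp, Preadditive.comp_sub, he, hpp] at h
    rw [← sub_eq_zero]
    calc e + p - (e ≫ p + p ≫ e) = e - p ≫ e - (e ≫ p - p) := by abel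
      _ = 0 := h
  have h2 : p ≫ e ≫ p = p := by
    have h := congrArg (fun x => p ≫ x ≫ p) h1
    simp only [Preadditive.add_comp, Preadditive.comp_add, Category.assoc, hpp,
      reassoc_of% hpp] at h
    exact (add_left_cancel h).symm
  have h3 : e ≫ p ≫ e = e := by
    have h := congrArg (fun x => e ≫ x ≫ e) h1
    simp only [Preadditive.add_comp, Preadditive.comp_add, Category.assoc, he,
      reassoc_of% he] at h
    have h' : e + e ≫ p ≫ e = e ≫ p ≫ e + e ≫ p ≫ e := h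
    exact (add_right_cancel h').symm
  refine ⟨A, i ≫ e, e ≫ π, ?_, ?_⟩
  · calc (i ≫ e) ≫ e ≫ π = i ≫ e ≫ π := by rw [Category.assoc, reassoc_of% he]
      _ = (i ≫ p) ≫ e ≫ (p ≫ π) := by rw [hip, hpπ]
      _ = i ≫ (p ≫ e ≫ p) ≫ π := by simp only [Category.assoc]
      _ = 𝟙 A := by rw [h2, hpπ, hiπ]
  · calc (e ≫ π) ≫ i ≫ e = e ≫ (π ≫ i) ≫ e := by simp only [Category.assoc]
      _ = e := by rw [hπi, h3]

end Algebra

section Triangulated

variable {C : Type u} [Category.{v} C] [Preadditive C]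
  [HasZeroObject C] [HasShift C ℤ] [∀ n : ℤ, (shiftFunctor C n).Additive] [Pretriangulated C]

/-- Gluing of splittings along a distinguished triangle: if `φ` is an idempotent endomorphism of a
distinguished triangle `T` with `Hom(T.obj₁⟦1⟧, T.obj₃) = 0` such that `φ.hom₁` and `φ.hom₃` split,
then `φ.hom₂` splits. -/
lemma splits_of_triangle (T : Triangle C) (hT : T ∈ distTriang C)
    (hzero : ∀ f : T.obj₁⟦(1 : ℤ)⟧ ⟶ T.obj₃, f = 0)
    (φ : T ⟶ T) (he : φ.hom₂ ≫ φ.hom₂ = φ.hom₂)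
    (h₁ : Splits φ.hom₁) (h₃ : Splits φ.hom₃) : Splits φ.hom₂ := by
  obtain ⟨A', i', π', hiπ', hπi'⟩ := h₁
  obtain ⟨A'', i'', π'', hiπ'', hπi''⟩ := h₃
  -- the connecting map of the image triangle
  obtain ⟨A, uA, vA, hTA⟩ := distinguished_cocone_triangle₂ (i'' ≫ T.mor₃ ≫ π'⟦(1 : ℤ)⟧')
  have hi''e : i'' ≫ φ.hom₃ = i'' := by rw [← hπi'', reassoc_of% hiπ'']
  have heπ' : φ.hom₁ ≫ π' = π' := by rw [← hπi', Category.assoc, hiπ', Category.comp_id]
  have comm₃ : T.mor₃ ≫ φ.hom₁⟦(1 : ℤ)⟧' = φ.hom₃ ≫ T.mor₃ := φ.comm₃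
  -- the inclusion `A ⟶ X`
  obtain ⟨(i : A ⟶ T.obj₂), hi₁, hi₂⟩ := complete_distinguished_triangle_morphism₂ _ T hTA hT i' i'' (by
    change (i'' ≫ T.mor₃ ≫ π'⟦(1 : ℤ)⟧') ≫ i'⟦(1 : ℤ)⟧' = i'' ≫ T.mor₃
    rw [Category.assoc, Category.assoc, ← Functor.map_comp, hπi', comm₃, reassoc_of% hi''e])
  -- the projection `X ⟶ A`
  obtain ⟨(π : T.obj₂ ⟶ A), hπ₁, hπ₂⟩ := complete_distinguished_triangle_morphism₂ T _ hT hTA π' π'' (by
    change T.mor₃ ≫ π'⟦(1 : ℤ)⟧' = π'' ≫ i'' ≫ T.mor₃ ≫ π'⟦(1 : ℤ)⟧'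
    rw [reassoc_of% hπi'', ← reassoc_of% comm₃, ← Functor.map_comp, heπ'])
  change uA ≫ i = i' ≫ T.mor₁ at hi₁
  change vA ≫ i'' = i ≫ T.mor₂ at hi₂
  change T.mor₁ ≫ π = π' ≫ uA at hπ₁
  change T.mor₂ ≫ π'' = π ≫ vA at hπ₂
  -- `θ = i ≫ π` is an automorphism of `A`
  have hθ₁ : uA ≫ i ≫ π = uA := by
    rw [reassoc_of% hi₁, hπ₁, reassoc_of% hiπ']
  have hθ₂ : (i ≫ π) ≫ vA = vA := by
    rw [Category.assoc, ← hπ₂, ← reassoc_of% hi₂, hiπ'', Category.comp_id]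
  let ψ : Triangle.mk uA vA (i'' ≫ T.mor₃ ≫ π'⟦(1 : ℤ)⟧') ⟶
      Triangle.mk uA vA (i'' ≫ T.mor₃ ≫ π'⟦(1 : ℤ)⟧') :=
    { hom₁ := 𝟙 _
      hom₂ := i ≫ π
      hom₃ := 𝟙 _
      comm₁ := by
        change uA ≫ i ≫ π = 𝟙 _ ≫ uA
        rw [hθ₁, Category.id_comp]
      comm₂ := by
        change vA ≫ 𝟙 _ = (i ≫ π) ≫ vA
        rw [hθ₂, Category.comp_id]
      comm₃ := by
        change (i'' ≫ T.mor₃ ≫ π'⟦(1 : ℤ)⟧') ≫ (𝟙 A')⟦(1 : ℤ)⟧' =
          𝟙 A'' ≫ (i'' ≫ T.mor₃ ≫ π'⟦(1 : ℤ)⟧')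
        rw [CategoryTheory.Functor.map_id, Category.comp_id, Category.id_comp] }
  have hiso : IsIso (i ≫ π) :=
    isIso₂_of_isIso₁₃ ψ hTA hTA (by dsimp [ψ]; infer_instance) (by dsimp [ψ]; infer_instance)
  have hθ₁' : uA ≫ inv (i ≫ π) = uA := by
    rw [IsIso.comp_inv_eq, hθ₁]
  have hθ₂' : inv (i ≫ π) ≫ vA = vA := by
    rw [IsIso.inv_comp_eq, hθ₂]
  -- the split idempotent `p`
  have hp : Splits ((π ≫ inv (i ≫ π)) ≫ i) :=
    ⟨A, i, π ≫ inv (i ≫ π), by rw [← Category.assoc, IsIso.hom_inv_id], rfl⟩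
  have hn₁ : T.mor₁ ≫ (φ.hom₂ - (π ≫ inv (i ≫ π)) ≫ i) = 0 := by
    rw [Preadditive.comp_sub, sub_eq_zero, φ.comm₁, Category.assoc, reassoc_of% hπ₁,
      reassoc_of% hθ₁', hi₁, reassoc_of% hπi']
  have hn₂ : (φ.hom₂ - (π ≫ inv (i ≫ π)) ≫ i) ≫ T.mor₂ = 0 := by
    rw [Preadditive.sub_comp, sub_eq_zero, ← φ.comm₂, Category.assoc, Category.assoc, ← hi₂,
      reassoc_of% hθ₂', ← reassoc_of% hπ₂, hπi'']
  refine splits_of_sq_zero _ _ he hp ?_
  obtain ⟨n₁, hn₁'⟩ := Triangle.yoneda_exact₂ T hT _ hn₁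
  have h1 : T.mor₂ ≫ (n₁ ≫ T.mor₂) = 0 := by
    rw [← Category.assoc, ← hn₁', hn₂]
  obtain ⟨ψ', hψ'⟩ := Triangle.yoneda_exact₃ T hT _ h1
  rw [hzero ψ', comp_zero] at hψ'
  obtain ⟨n₂, hn₂'⟩ := Triangle.coyoneda_exact₂ T hT _ hψ'
  rw [hn₁', hn₂']
  simp only [Category.assoc]
  rw [comp_distTriang_mor_zero₁₂_assoc _ hT]
  simp

variable (t : TStructure C)

/-- Idempotents on an object of amplitude `[a, a]` split (no abelianness of the heart needed). -/
lemma splits_of_isGE_isLE {X : C} (a : ℤ) [t.IsGE X a] [t.IsLE X a] (e : X ⟶ X)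
    (he : e ≫ e = e) : Splits e := by
  obtain ⟨Z, g, h, hT⟩ := distinguished_cocone_triangle (𝟙 X - e)
  have hfg : (𝟙 X - e) ≫ g = 0 := comp_distTriang_mor_zero₁₂ _ hT
  have hfe : (𝟙 X - e) ≫ e = 0 := by
    rw [Preadditive.sub_comp, Category.id_comp, he, sub_self]
  obtain ⟨(e' : Z ⟶ X), he'⟩ := Triangle.yoneda_exact₂ _ hT e hfe
  change e = g ≫ e' at he'
  obtain ⟨p, hp⟩ : ∃ p : Z ⟶ (t.truncGE a).obj Z, p = (t.truncGEπ a).app Z := ⟨_, rfl⟩
  have hpi : p ≫ t.descTruncGE e' a = e' := by rw [hp]; exact t.π_descTruncGE e' a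
  have heg : e ≫ g = g := by
    have : e = 𝟙 X - (𝟙 X - e) := by abel
    rw [this, Preadditive.sub_comp, hfg, sub_zero, Category.id_comp]
  refine ⟨(t.truncGE a).obj Z, t.descTruncGE e' a, g ≫ p, ?_, ?_⟩
  · apply t.from_truncGE_obj_ext
    rw [← hp, reassoc_of% hpi, Category.comp_id]
    -- `e' ≫ g ≫ p = p`
    have h1 : g ≫ (e' ≫ g ≫ p - p) = 0 := by
      rw [Preadditive.comp_sub, ← reassoc_of% he', reassoc_of% heg, sub_self]
    obtain ⟨(ψ : X⟦(1 : ℤ)⟧ ⟶ (t.truncGE a).obj Z), hψ⟩ := Triangle.yoneda_exact₃ _ hT _ h1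
    change _ = h ≫ ψ at hψ
    have hψ0 : ψ = 0 := by
      have : t.IsLE (X⟦(1 : ℤ)⟧) (a - 1) := t.isLE_shift X a 1 (a - 1) (by lia)
      exact t.zero ψ (a - 1) a (by lia)
    rw [hψ0, comp_zero, sub_eq_zero] at hψ
    exact hψ
  · rw [Category.assoc, hpi, ← he']

/-- Idempotents on objects of amplitude `[a, a + n]` split. -/
lemma splits_of_amplitude [IsTriangulated C] (n : ℕ) :
    ∀ (X : C) (a : ℤ), t.IsGE X a → t.IsLE X (a + n) →
      ∀ (e : X ⟶ X), e ≫ e = e → Splits e := by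
  induction n with
  | zero =>
    intro X a h1 h2 e he
    have : t.IsLE X a := by simpa using h2
    exact splits_of_isGE_isLE t a e he
  | succ n ih =>
    intro X a h1 h2 e he
    -- top degree
    let m : ℤ := a + (n + 1 : ℕ)
    have h2' : t.IsLE X m := h2
    let T := (t.triangleLTGE m).obj X
    have hT : T ∈ distTriang C := t.triangleLTGE_distinguished m X
    let φ : T ⟶ T := (t.triangleLTGE m).map e
    have hφ : φ ≫ φ = φ := by
      rw [← Functor.map_comp, he]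
    have hφ₁ : φ.hom₁ ≫ φ.hom₁ = φ.hom₁ := by
      have := congrArg TriangleMorphism.hom₁ hφ
      exact this
    have hφ₃ : φ.hom₃ ≫ φ.hom₃ = φ.hom₃ := by
      have := congrArg TriangleMorphism.hom₃ hφ
      exact this
    have hφ₂ : φ.hom₂ = e := rfl
    have hT₁GE : t.IsGE T.obj₁ a := by
      change t.IsGE ((t.truncLT m).obj X) a
      infer_instance
    have hT₁LE : t.IsLE T.obj₁ (a + n) := by
      have : t.IsLE T.obj₁ (m - 1) := by
        change t.IsLE ((t.triangleLTGE m).obj X).obj₁ (m - 1)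
        infer_instance
      exact t.isLE_of_le T.obj₁ (m - 1) (a + n) (by simp only [m]; push_cast; lia)
    have hT₃GE : t.IsGE T.obj₃ m := by
      change t.IsGE ((t.triangleLTGE m).obj X).obj₃ m
      infer_instance
    have hT₃LE : t.IsLE T.obj₃ m := by
      change t.IsLE ((t.truncGE m).obj X) m
      infer_instance
    have hs₁ : Splits φ.hom₁ := ih T.obj₁ a hT₁GE hT₁LE φ.hom₁ hφ₁
    have hs₃ : Splits φ.hom₃ := splits_of_isGE_isLE t m φ.hom₃ hφ₃
    have hzero : ∀ f : T.obj₁⟦(1 : ℤ)⟧ ⟶ T.obj₃, f = 0 := by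
      intro f
      have : t.IsLE T.obj₁ (m - 1) := by
        change t.IsLE ((t.triangleLTGE m).obj X).obj₁ (m - 1)
        infer_instance
      have : t.IsLE (T.obj₁⟦(1 : ℤ)⟧) (m - 2) := t.isLE_shift T.obj₁ (m - 1) 1 (m - 2) (by lia)
      exact t.zero f (m - 2) m (by lia)
    exact splits_of_triangle T hT hzero φ he hs₁ hs₃

/-- **Le–Chen**: a triangulated category with a bounded t-structure is idempotent complete. -/
theorem isIdempotentComplete_of_bounded [IsTriangulated C] (hb : ∀ X : C, t.bounded X) :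
    IsIdempotentComplete C := by
  refine ⟨fun X e he => ?_⟩
  obtain ⟨⟨a, ha⟩, ⟨b, hb'⟩⟩ := hb X
  have hle : t.IsLE X (a + ((b - a).toNat : ℕ)) :=
    t.isLE_of_le X b _ (by
      have := Int.self_le_toNat (b - a)
      lia)
  obtain ⟨Y, i, π, h1, h2⟩ := splits_of_amplitude t (b - a).toNat X a ha hle e he
  exact ⟨Y, i, π, h1, h2⟩

end Triangulated

end Groth.Agent.Lib.Helper16.TStructIdem
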